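import Mathlib

/-!
# `κ ⊗[k] k(ι)` is a domain

For fields `κ/k`, the tensor product of `κ` with a purely transcendental extension of `k` is a
domain (it is a localization of the polynomial ring `κ[ι]`).
-/

set_option autoImplicit false
universe u v w

open TensorProduct

namespace Groth.Agent.Lib.Helper19

section

variable (k : Type u) [Field k] (κ : Type v) [Field κ] [Algebra k κ] (ι : Type w)

/-- `κ ⊗[k] k[ι]` is a domain. -/
theorem isDomain_tensor_mvPolynomial : IsDomain (κ ⊗[k] MvPolynomial ι k) :=
  (MvPolynomial.algebraTensorAlgEquiv (R := k) (σ := ι) (A := κ)).toMulEquiv.isDomain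

/-- `κ ⊗[k] Frac(k[ι])` is a domain. -/
theorem isDomain_tensor_fractionRing_mvPolynomial :
    IsDomain (κ ⊗[k] FractionRing (MvPolynomial ι k)) := by
  let A := MvPolynomial ι k
  let K := FractionRing A
  haveI : IsDomain (κ ⊗[k] A) := isDomain_tensor_mvPolynomial k κ ι
  let φ : κ ⊗[k] A →ₐ[κ] κ ⊗[k] K :=
    Algebra.TensorProduct.map (AlgHom.id κ κ) (IsScalarTower.toAlgHom k A K)
  letI : Algebra (κ ⊗[k] A) (κ ⊗[k] K) := φ.toRingHom.toAlgebra
  haveI : IsScalarTower κ (κ ⊗[k] A) (κ ⊗[k] K) :=
    IsScalarTower.of_algHom φ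
  have H : (algebraMap (κ ⊗[k] A) (κ ⊗[k] K)).comp
      (Algebra.TensorProduct.includeRight (R := k) (A := κ) (B := A)).toRingHom =
      (Algebra.TensorProduct.includeRight (R := k) (A := κ) (B := K)).toRingHom.comp
        (algebraMap A K) := by
    ext x
    · simp [RingHom.algebraMap_toAlgebra, φ]
    · simp [RingHom.algebraMap_toAlgebra, φ]
  haveI := IsLocalization.tensorProduct_tensorProduct_right k κ (nonZeroDivisors A) K H
  refine IsLocalization.isDomain_of_le_nonZeroDivisors (R := κ ⊗[k] A) (κ ⊗[k] K)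
    (M := (nonZeroDivisors A).map (Algebra.TensorProduct.includeRight (R := k) (A := κ))) ?_
  rintro _ ⟨a, ha, rfl⟩
  refine mem_nonZeroDivisors_of_ne_zero ?_
  have hinj : Function.Injective (Algebra.TensorProduct.includeRight (R := k) (A := κ) (B := A)) :=
    Algebra.TensorProduct.includeRight_injective (algebraMap k κ).injective
  intro h0
  have : a = 0 := hinj (by simpa using h0)
  exact (nonZeroDivisors.ne_zero ha) this

end

end Groth.Agent.Lib.Helper19
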