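import Mathlib
import Groth.Agent.Lib.Helper19.GC.TensorDomain

/-!
# Base change of a connected scheme along a field extension with connected tensor products
-/

set_option autoImplicit false
universe u

open CategoryTheory CategoryTheory.Limits AlgebraicGeometry TensorProduct

namespace Groth.Agent.Lib.Helper19

variable {k : Type u} [Field k] {X : Scheme.{u}} (f : X ⟶ Spec (CommRingCat.of k))
  (K : Type u) [Field K] [Algebra k K]

/-- The fibres of `X_K ⟶ X` are connected if `Spec (κ ⊗[k] K)` is connected for all fields `κ`
over `k`. -/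
theorem isConnected_preimage_singleton_pullback_fst
    (hK : ∀ (κ : Type u) [Field κ] [Algebra k κ], ConnectedSpace ↥(Spec (CommRingCat.of (κ ⊗[k] K))))
    (p : X) :
    _root_.IsConnected ((pullback.fst f (Spec.map (CommRingCat.ofHom (algebraMap k K)))) ⁻¹' {p}) := by
  set y := Spec.map (CommRingCat.ofHom (algebraMap k K)) with hy
  set π := pullback.fst f y with hπ
  rw [← π.range_fiberι p]
  suffices h : ConnectedSpace ↥(π.fiber p) from isConnected_range (π.fiberι p).continuous
  let ιp := X.fromSpecResidueField p
  -- `π.fiber p = pullback π ιp ≅ pullback ιp π ≅ pullback (ιp ≫ f) y`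
  let e₁ : π.fiber p ≅ pullback (ιp ≫ f) y :=
    pullbackSymmetry _ _ ≪≫ pullbackRightPullbackFstIso f y ιp
  rw [e₁.hom.homeomorph.connectedSpace_iff]
  obtain ⟨ψ, hψ⟩ := Spec.map_surjective (ιp ≫ f)
  letI : Algebra k (X.residueField p) := ψ.hom.toAlgebra
  have hψ' : ιp ≫ f = Spec.map (CommRingCat.ofHom (algebraMap k (X.residueField p))) := hψ.symm
  rw [hψ']
  rw [(pullbackSpecIso k (X.residueField p) K).hom.homeomorph.connectedSpace_iff]
  exact hK (X.residueField p)

/-- If `Spec (κ ⊗[k] K)` is connected for all fields `κ` over `k` and `X` is connected, then `X_K`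
is connected. -/
theorem connectedSpace_pullback_of_forall_connectedSpace_tensor [ConnectedSpace X]
    (hK : ∀ (κ : Type u) [Field κ] [Algebra k κ], ConnectedSpace ↥(Spec (CommRingCat.of (κ ⊗[k] K)))) :
    ConnectedSpace ↥(pullback f (Spec.map (CommRingCat.ofHom (algebraMap k K)))) := by
  set y := Spec.map (CommRingCat.ofHom (algebraMap k K)) with hy
  set π := pullback.fst f y with hπ
  have hfib := isConnected_preimage_singleton_pullback_fst f K hK
  have hopen : IsOpenMap π := Scheme.Hom.isOpenMap _
  have hsurj : Function.Surjective π := fun p => (hfib p).1.imp fun w hw => hw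
  have hco : Topology.IsCoinducing π := (hopen.isQuotientMap π.continuous hsurj).isCoinducing
  have := Topology.IsCoinducing.isConnected_preimage_of_isClosed hfib hco isClosed_univ
    isConnected_univ
  rw [Set.preimage_univ] at this
  exact connectedSpace_iff_univ.mpr this

/-- The case of a purely transcendental extension. -/
theorem connectedSpace_pullback_of_algEquiv_fractionRing_mvPolynomial [ConnectedSpace X]
    (ι : Type u) (e : FractionRing (MvPolynomial ι k) ≃ₐ[k] K) :
    ConnectedSpace ↥(pullback f (Spec.map (CommRingCat.ofHom (algebraMap k K)))) := by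
  apply connectedSpace_pullback_of_forall_connectedSpace_tensor
  intro κ _ _
  haveI : IsDomain (κ ⊗[k] FractionRing (MvPolynomial ι k)) :=
    isDomain_tensor_fractionRing_mvPolynomial k κ ι
  haveI : IsDomain (κ ⊗[k] K) :=
    (Algebra.TensorProduct.congr (AlgEquiv.refl : κ ≃ₐ[k] κ) e).symm.toMulEquiv.isDomain
  change ConnectedSpace (PrimeSpectrum (κ ⊗[k] K))
  infer_instance

end Groth.Agent.Lib.Helper19
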