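import Mathlib
import Groth.Agent.Lib.Helper19.GC.Transcendental

/-!
# A connected scheme over a field with a rational point is geometrically connected
-/

set_option autoImplicit false
universe u

open CategoryTheory CategoryTheory.Limits AlgebraicGeometry TensorProduct

namespace Groth.Agent.Lib.Helper19

/-- A topological lemma: a continuous, open and closed map to a connected space, one of whose
fibres is a singleton, has connected source. -/
theorem connectedSpace_of_isOpenMap_of_isClosedMap {Z X : Type*} [TopologicalSpace Z]
    [TopologicalSpace X] [ConnectedSpace X] (π : Z → X) (hopen : IsOpenMap π)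
    (hclosed : IsClosedMap π) (x₀ : X) (z₀ : Z) (hz₀ : π z₀ = x₀)
    (hfib : ∀ z, π z = x₀ → z = z₀) : ConnectedSpace Z := by
  haveI : Nonempty Z := ⟨z₀⟩
  have key : ∀ s : Set Z, IsClopen s → s.Nonempty → z₀ ∈ s := by
    intro s hs hne
    have h1 : IsClopen (π '' s) := ⟨hclosed _ hs.1, hopen _ hs.2⟩
    have h2 : π '' s = Set.univ := by
      rcases isClopen_iff.mp h1 with h | h
      · exact absurd (h ▸ hne.image π) Set.not_nonempty_empty
      · exact h
    obtain ⟨z, hz, hzx⟩ : x₀ ∈ π '' s := h2 ▸ Set.mem_univ _
    exact hfib z hzx ▸ hz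
  refine { toPreconnectedSpace := ⟨?_⟩, toNonempty := inferInstance }
  rw [← preconnectedSpace_iff_univ]
  refine preconnectedSpace_iff_clopen.mpr fun s hs => ?_
  by_contra hcon
  push Not at hcon
  have h1 : s.Nonempty := hcon.1
  have h2 : sᶜ.Nonempty := by
    rw [Set.nonempty_compl]; exact hcon.2
  exact (key sᶜ hs.compl h2) (key s hs h1)

section Algebraic

variable {E : Type u} [Field E] {X : Scheme.{u}} (f : X ⟶ Spec (CommRingCat.of E))
  (K : Type u) [Field K] [Algebra E K]

/-- The algebraic step. -/
theorem connectedSpace_pullback_of_isAlgebraic [ConnectedSpace X] [Algebra.IsAlgebraic E K]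
    (x : Spec (CommRingCat.of E) ⟶ X) (hx : x ≫ f = 𝟙 _) :
    ConnectedSpace ↥(pullback f (Spec.map (CommRingCat.ofHom (algebraMap E K)))) := by
  set y := Spec.map (CommRingCat.ofHom (algebraMap E K)) with hy
  set π := pullback.fst f y with hπ
  haveI : IsIntegralHom y := by
    rw [hy, IsIntegralHom.SpecMap_iff]
    exact algebraMap_isIntegral_iff.mpr inferInstance
  haveI : IsIntegralHom π := MorphismProperty.pullback_fst f y inferInstance
  have hopen : IsOpenMap π := Scheme.Hom.isOpenMap _
  have hclosed : IsClosedMap π := Scheme.Hom.isClosedMap _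
  -- the point over the rational point
  obtain ⟨pt⟩ : Nonempty ↥(Spec (CommRingCat.of E)) := inferInstance
  obtain ⟨ptK⟩ : Nonempty ↥(Spec (CommRingCat.of K)) := inferInstance
  have hpt : f (x pt) = y ptK := Subsingleton.elim (α := PrimeSpectrum E) _ _
  obtain ⟨z₀, hz₀, -⟩ := Scheme.Pullback.exists_preimage_pullback (x pt) ptK hpt
  -- the fibre over the rational point is a singleton
  let P := pullback π x
  have hP : Subsingleton ↥P := by
    let e₁ : P ≅ pullback (x ≫ f) y := pullbackSymmetry _ _ ≪≫ pullbackRightPullbackFstIso f y x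
    haveI hiso : IsIso (x ≫ f) := by rw [hx]; infer_instance
    haveI : IsIso (pullback.snd (x ≫ f) y) := inferInstance
    let e₂ : P ≅ Spec (CommRingCat.of K) := e₁ ≪≫ asIso (pullback.snd (x ≫ f) y)
    haveI : Subsingleton ↥(Spec (CommRingCat.of K)) :=
      inferInstanceAs (Subsingleton (PrimeSpectrum K))
    exact e₂.hom.homeomorph.injective.subsingleton
  have hfib : ∀ z, π z = x pt → z = z₀ := by
    intro z hz
    obtain ⟨w, hw1, -⟩ := Scheme.Pullback.exists_preimage_pullback (f := π) (g := x) z pt hz
    obtain ⟨w₀, hw01, -⟩ := Scheme.Pullback.exists_preimage_pullback (f := π) (g := x) z₀ pt hz₀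
    rw [← hw1, ← hw01, Subsingleton.elim w w₀]
  exact connectedSpace_of_isOpenMap_of_isClosedMap π hopen hclosed (x pt) z₀ hz₀ hfib

end Algebraic

section Main

variable {k : Type u} [Field k] {X : Scheme.{u}} (f : X ⟶ Spec (CommRingCat.of k))

/-- A connected scheme over a field with a rational point stays connected after any field
extension. -/
theorem connectedSpace_pullback_of_section [ConnectedSpace X]
    (x : Spec (CommRingCat.of k) ⟶ X) (hx : x ≫ f = 𝟙 _) (K : Type u) [Field K] [Algebra k K] :
    ConnectedSpace ↥(pullback f (Spec.map (CommRingCat.ofHom (algebraMap k K)))) := by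
  obtain ⟨s, hs⟩ := exists_isTranscendenceBasis k K
  let E := IntermediateField.adjoin k (Set.range ((↑) : s → K))
  have halg : Algebra.IsAlgebraic E K := hs.isAlgebraic_field
  let e : FractionRing (MvPolynomial s k) ≃ₐ[k] E := hs.1.aevalEquivField
  let yE := Spec.map (CommRingCat.ofHom (algebraMap k E))
  let yK := Spec.map (CommRingCat.ofHom (algebraMap E K))
  haveI hXE : ConnectedSpace ↥(pullback f yE) :=
    connectedSpace_pullback_of_algEquiv_fractionRing_mvPolynomial f E s e
  -- the rational point of `X_E`
  let xE : Spec (CommRingCat.of E) ⟶ pullback f yE :=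
    pullback.lift (yE ≫ x) (𝟙 _) (by rw [Category.assoc, hx, Category.comp_id, Category.id_comp])
  have hxE : xE ≫ pullback.snd f yE = 𝟙 _ := pullback.lift_snd _ _ _
  have h1 := connectedSpace_pullback_of_isAlgebraic (pullback.snd f yE) K xE hxE
  have hcomp : yK ≫ yE = Spec.map (CommRingCat.ofHom (algebraMap k K)) := by
    rw [← Spec.map_comp, ← CommRingCat.ofHom_comp, ← IsScalarTower.algebraMap_eq]
  rw [← hcomp]
  exact (pullbackLeftPullbackSndIso f yE yK).hom.homeomorph.connectedSpace_iff.mp h1

/-- A connected scheme over a field with a rational point is geometrically connected. -/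
theorem geometricallyConnected_of_section [ConnectedSpace X]
    (x : Spec (CommRingCat.of k) ⟶ X) (hx : x ≫ f = 𝟙 _) : GeometricallyConnected f := by
  rw [GeometricallyConnected.eq_geometrically,
    geometrically_iff_of_commRing_of_isClosedUnderIsomorphisms]
  intro K _ _
  exact connectedSpace_pullback_of_section f x hx K

end Main

end Groth.Agent.Lib.Helper19
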