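import Mathlib
import Groth.Agent.Lib.Helper19.GC.Main

/-!
# Connected components of fibres through a section commute with base change
-/

set_option autoImplicit false
universe u

open CategoryTheory CategoryTheory.Limits AlgebraicGeometry TopologicalSpace

namespace Groth.Agent.Lib.Helper19

/-- The kernel of a morphism from a reduced scheme is the vanishing ideal of the closure of its
range. -/
lemma ker_eq_vanishingIdeal_of_isReduced' {W Y : Scheme.{u}} [IsReduced W] (h : W ⟶ Y) :
    h.ker = Scheme.IdealSheafData.vanishingIdeal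
      (.closure (h '' ((⊤ : TopologicalSpace.Closeds W) : Set W))) := by
  rw [← Scheme.IdealSheafData.map_bot h, ← Scheme.nilradical_eq_bot,
    ← Scheme.IdealSheafData.vanishingIdeal_top, Scheme.IdealSheafData.map_vanishingIdeal]

/-- A morphism from a reduced scheme whose image lies in a closed subset factors through the
reduced induced closed subscheme. -/
theorem exists_lift_vanishingIdeal' {W U : Scheme.{u}} [IsReduced W] (f : W ⟶ U)
    (C : TopologicalSpace.Closeds ↥U) (h : Set.range f ⊆ C) :
    ∃ l : W ⟶ (Scheme.IdealSheafData.vanishingIdeal C).subscheme,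
      l ≫ (Scheme.IdealSheafData.vanishingIdeal C).subschemeι = f := by
  have H : (Scheme.IdealSheafData.vanishingIdeal C).subschemeι.ker ≤ f.ker := by
    rw [Scheme.IdealSheafData.ker_subschemeι, ker_eq_vanishingIdeal_of_isReduced' f]
    apply Scheme.IdealSheafData.vanishingIdeal_antimono
    rw [TopologicalSpace.Closeds.closure_le]
    rintro _ ⟨w, -, rfl⟩
    exact h ⟨w, rfl⟩
  exact ⟨IsClosedImmersion.lift _ f H, IsClosedImmersion.lift_fac _ _ H⟩

/-- Let `W` be a scheme over a field `k` with a rational point `e`, and `W'` its base change to a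
field `K`. The preimage in `W'` of a closed connected subset of `W` containing the rational point
is connected. -/
theorem isConnected_preimage_of_section {k K : Type u} [Field k] [Field K] {W W' : Scheme.{u}}
    (q : W ⟶ Spec (CommRingCat.of k)) (q' : W' ⟶ Spec (CommRingCat.of K)) (Φ : W' ⟶ W)
    (j : Spec (CommRingCat.of K) ⟶ Spec (CommRingCat.of k)) (h : IsPullback Φ q' q j)
    (e : Spec (CommRingCat.of k) ⟶ W) (he : e ≫ q = 𝟙 _) (C : Set W) (hC : IsClosed C)
    (hconn : _root_.IsConnected C) (hmem : Set.range e ⊆ C) : _root_.IsConnected (Φ ⁻¹' C) := by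
  set I := Scheme.IdealSheafData.vanishingIdeal ⟨C, hC⟩ with hI
  set T := I.subscheme with hT
  set i : T ⟶ W := I.subschemeι with hi
  have hrange : Set.range i = C := by
    rw [hi, Scheme.IdealSheafData.range_subschemeι, hI,
      Scheme.IdealSheafData.coe_support_vanishingIdeal]
    rfl
  -- `T` is connected
  haveI : ConnectedSpace T := by
    rw [connectedSpace_iff_univ]
    obtain ⟨⟨c, hc⟩, hpre⟩ := hconn
    obtain ⟨t, -⟩ : c ∈ Set.range i := by rw [hrange]; exact hc
    refine ⟨⟨t, trivial⟩, ?_⟩
    rw [← i.isEmbedding.isInducing.isPreconnected_image, Set.image_univ, hrange]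
    exact hpre
  -- the rational point of `T`
  obtain ⟨eT, heT⟩ := exists_lift_vanishingIdeal' e ⟨C, hC⟩ hmem
  have heTq : eT ≫ (i ≫ q) = 𝟙 _ := by
    rw [← Category.assoc, hi, heT, he]
  haveI hgc : GeometricallyConnected (i ≫ q) := geometricallyConnected_of_section _ eT heTq
  -- the base change of `T`
  have hpb : IsPullback (pullback.fst i Φ) (pullback.snd i Φ ≫ q') (i ≫ q) j :=
    (IsPullback.of_hasPullback i Φ).paste_vert h
  haveI : ConnectedSpace ↥(pullback i Φ) := hgc.geometrically_connectedSpace j _ _ hpb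
  have hr : Set.range (pullback.snd i Φ) = Φ ⁻¹' C := by
    rw [Scheme.Pullback.range_snd, hrange]
  rw [← hr]
  exact isConnected_range (pullback.snd i Φ).continuous

/-- Pointwise form: the connected component of the section in the fibre commutes with base
change. -/
theorem mem_connectedComponentIn_fibre_baseChange {X Y X' Y' : Scheme.{u}} (f : X ⟶ Y)
    (s : Y ⟶ X) (hs : s ≫ f = 𝟙 Y)
    (f' : X' ⟶ Y') (g' : X' ⟶ X) (g : Y' ⟶ Y) (hc : IsPullback g' f' f g)
    (s' : Y' ⟶ X') (hs' : s' ≫ f' = 𝟙 Y') (hs'g : s' ≫ g' = g ≫ s) (x' : X') :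
    x' ∈ connectedComponentIn (f' ⁻¹' {f' x'}) (s' (f' x')) ↔
      g' x' ∈ connectedComponentIn (f ⁻¹' {f (g' x')}) (s (f (g' x'))) := by
  obtain ⟨y', hy'⟩ : ∃ y', y' = f' x' := ⟨_, rfl⟩
  have hy : f (g' x') = g y' := by
    rw [hy', ← Scheme.Hom.comp_apply, hc.w, Scheme.Hom.comp_apply]
  rw [hy, ← hy']
  have hfg : ∀ z : X', f (g' z) = g (f' z) := fun z => by
    rw [← Scheme.Hom.comp_apply, hc.w, Scheme.Hom.comp_apply]
  have hsg : g' (s' y') = s (g y') := by
    rw [← Scheme.Hom.comp_apply, hs'g, Scheme.Hom.comp_apply]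
  have hfs : ∀ y, f (s y) = y := fun y => by
    rw [← Scheme.Hom.comp_apply, hs]; rfl
  have hfs' : ∀ y, f' (s' y) = y := fun y => by
    rw [← Scheme.Hom.comp_apply, hs']; rfl
  constructor
  · intro hx
    have hpre : _root_.IsPreconnected (g' '' connectedComponentIn (f' ⁻¹' {y'}) (s' y')) :=
      isPreconnected_connectedComponentIn.image _ g'.continuous.continuousOn
    have hsub : g' '' connectedComponentIn (f' ⁻¹' {y'}) (s' y') ⊆ f ⁻¹' {g y'} := by
      rintro _ ⟨z, hz, rfl⟩
      have hz'' : z ∈ f' ⁻¹' {y'} := connectedComponentIn_subset _ _ hz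
      have hz' : f' z = y' := hz''
      change f (g' z) = g y'
      rw [hfg, hz']
    have hmem : s (g y') ∈ g' '' connectedComponentIn (f' ⁻¹' {y'}) (s' y') :=
      ⟨s' y', mem_connectedComponentIn (hfs' y'), hsg⟩
    exact hpre.subset_connectedComponentIn hmem hsub ⟨x', hx, rfl⟩
  · intro hx
    set ιy := f.fiberι (g y') with hιy
    set ιy' := f'.fiberι y' with hιy'
    set Φ : f'.fiber y' ⟶ f.fiber (g y') :=
      pullback.map _ _ _ _ g' (Spec.map (g.residueFieldMap y')) g hc.w.symm (by simp) with hΦd
    have hΦ : IsPullback Φ (f'.fiberToSpecResidueField y') (f.fiberToSpecResidueField (g y'))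
        (Spec.map (g.residueFieldMap y')) :=
      isPullback_fiberToSpecResidueField_of_isPullback hc y'
    have hΦι : Φ ≫ ιy = ιy' ≫ g' := by
      rw [hΦd, hιy, hιy']
      exact pullback.lift_fst _ _ _
    have hιΦ : ∀ w, ιy (Φ w) = g' (ιy' w) := fun w => by
      rw [← Scheme.Hom.comp_apply, hΦι, Scheme.Hom.comp_apply]
    -- the rational point
    let e : Spec (Y.residueField (g y')) ⟶ f.fiber (g y') :=
      pullback.lift (Y.fromSpecResidueField (g y') ≫ s) (𝟙 _)
        (by rw [Category.assoc, hs, Category.comp_id, Category.id_comp])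
    have he : e ≫ f.fiberToSpecResidueField (g y') = 𝟙 _ := pullback.lift_snd _ _ _
    have heι : e ≫ ιy = Y.fromSpecResidueField (g y') ≫ s := pullback.lift_fst _ _ _
    let pt : Spec (Y.residueField (g y')) := IsLocalRing.closedPoint (Y.residueField (g y'))
    set w₀ := e pt with hw₀d
    have hw₀ : ιy w₀ = s (g y') := by
      rw [hw₀d, ← Scheme.Hom.comp_apply, heι, Scheme.Hom.comp_apply,
        Scheme.fromSpecResidueField_apply]
    have hrange : Set.range e ⊆ connectedComponent w₀ := by
      rintro _ ⟨p, rfl⟩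
      have : p = pt := Subsingleton.elim (α := PrimeSpectrum (Y.residueField (g y'))) _ _
      rw [this]
      exact mem_connectedComponent
    have hconn := isConnected_preimage_of_section (k := Y.residueField (g y'))
      (K := Y'.residueField y') (f.fiberToSpecResidueField (g y'))
      (f'.fiberToSpecResidueField y') Φ
      (Spec.map (g.residueFieldMap y')) hΦ e he (connectedComponent w₀)
      isClosed_connectedComponent isConnected_connectedComponent hrange
    -- the point of the upper fibre
    have hrι' : Set.range ιy' = f' ⁻¹' {y'} := f'.range_fiberι y'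
    have hrι : Set.range ιy = f ⁻¹' {g y'} := f.range_fiberι (g y')
    have hinj : Function.Injective ιy := (f.fiberι (g y')).isEmbedding.injective
    obtain ⟨w₀', hw₀'⟩ : s' y' ∈ Set.range ιy' := by rw [hrι']; exact hfs' y'
    have hΦw₀' : Φ w₀' = w₀ := by
      apply hinj
      rw [hιΦ, hw₀', hsg, hw₀]
    -- the image of the preimage
    have hA : ιy' '' (Φ ⁻¹' connectedComponent w₀) ⊆
        connectedComponentIn (f' ⁻¹' {y'}) (s' y') := by
      refine (hconn.isPreconnected.image _ ιy'.continuous.continuousOn).subset_connectedComponentIn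
        ⟨w₀', ?_, hw₀'⟩ ?_
      · rw [Set.mem_preimage, hΦw₀']; exact mem_connectedComponent
      · rw [← hrι']
        rintro _ ⟨w, -, rfl⟩
        exact ⟨w, rfl⟩
    obtain ⟨w', hw'⟩ : x' ∈ Set.range ιy' := by rw [hrι']; exact hy'.symm
    refine hA ⟨w', ?_, hw'⟩
    -- `Φ w'` lies in the component of `w₀`
    have hB : _root_.IsPreconnected (ιy ⁻¹' connectedComponentIn (f ⁻¹' {g y'}) (s (g y'))) := by
      rw [← (f.fiberι (g y')).isEmbedding.isInducing.isPreconnected_image,
        Set.image_preimage_eq_of_subset]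
      · exact isPreconnected_connectedComponentIn
      · rw [hrι]; exact connectedComponentIn_subset _ _
    have hB' := hB.subset_connectedComponent (x := w₀) (by
      rw [Set.mem_preimage, hw₀]; exact mem_connectedComponentIn (hfs (g y')))
    apply hB'
    rw [Set.mem_preimage, hιΦ, hw']
    exact hx

end Groth.Agent.Lib.Helper19
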