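import Mathlib
import Groth.Prelude.Def_SGA3x
import Groth.Agent.Lib.Helper19.GC.SectionComponents

/-!
# The neutral set of a group scheme commutes with base change
-/

set_option autoImplicit false
universe u

open CategoryTheory CategoryTheory.Limits AlgebraicGeometry MonoidalCategory
  CartesianMonoidalCategory MonObj

namespace Groth.Agent.Lib.Helper19

variable {S : Scheme.{u}}

/-- The neutral set, described pointwise. -/
theorem mem_neutralSet_iff (G : Over S) [GrpObj G] (x : G.left) :
    x ∈ SGA3x.neutralSet G ↔
      x ∈ connectedComponentIn (G.hom ⁻¹' {G.hom x}) (η[G].left (G.hom x)) := by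
  unfold SGA3x.neutralSet
  rw [Set.mem_iUnion]
  constructor
  · rintro ⟨p, hp⟩
    have hx : x ∈ G.hom.base ⁻¹' {(𝟙_ (Over S)).hom.base p} := connectedComponentIn_subset _ _ hp
    have hx' : G.hom x = (𝟙_ (Over S)).hom.base p := hx
    have hp' : (𝟙_ (Over S)).hom.base p = p := rfl
    rw [hx', hp']
    exact hp
  · intro hx
    exact ⟨G.hom x, hx⟩

/-- The unit section of the base change lies over the unit section. -/
theorem bc_unit_fst {S' : Scheme.{u}} (f : S' ⟶ S) (G : Over S) [GrpObj G] :
    η[Red.bc f G].left ≫ pullback.fst G.hom f = f ≫ η[G].left := by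
  rw [Functor.obj.η_def, Over.comp_left, Category.assoc]
  have h1 : ((Over.pullback f).map η[G]).left ≫ pullback.fst G.hom f =
      pullback.fst (𝟙_ (Over S)).hom f ≫ η[G].left := by
    simp only [Over.pullback_map_left]
    exact pullback.lift_fst _ _ _
  rw [h1]
  have hε : (Functor.LaxMonoidal.ε (Over.pullback f)).left ≫
      pullback.snd (𝟙_ (Over S)).hom f = 𝟙 S' :=
    Over.w (Functor.LaxMonoidal.ε (Over.pullback f))
  have hc : pullback.fst (𝟙_ (Over S)).hom f = pullback.snd (𝟙_ (Over S)).hom f ≫ f := by
    have := pullback.condition (f := (𝟙_ (Over S)).hom) (g := f)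
    simpa using this
  rw [hc, Category.assoc, ← Category.assoc, hε]
  exact Category.id_comp _

/-- The neutral set commutes with base change. -/
theorem neutralSet_bc {S' : Scheme.{u}} (f : S' ⟶ S) (G : Over S) [GrpObj G] :
    SGA3x.neutralSet (Red.bc f G) = (pullback.fst G.hom f).base ⁻¹' SGA3x.neutralSet G := by
  ext x'
  rw [mem_neutralSet_iff, Set.mem_preimage, mem_neutralSet_iff]
  exact mem_connectedComponentIn_fibre_baseChange G.hom η[G].left (Over.w η[G])
    (pullback.snd G.hom f) (pullback.fst G.hom f) f (IsPullback.of_hasPullback G.hom f)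
    η[Red.bc f G].left (Over.w η[Red.bc f G]) (bc_unit_fst f G) x'

end Groth.Agent.Lib.Helper19
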