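import Mathlib
import Groth.Prelude.Def_SGA3x
import Groth.Agent.Lib.Helper19.GC.NeutralSet
import Groth.Agent.Lib.Helper19.Grp.SubgroupSet

/-!
# Open subgroup schemes contain the neutral components of the fibres
-/

set_option autoImplicit false
universe u

open CategoryTheory CategoryTheory.Limits AlgebraicGeometry MonoidalCategory
  CartesianMonoidalCategory MonObj

namespace Groth.Agent.Lib.Helper19

variable {S : Scheme.{u}}

/-- The range of the base change of a morphism to a fibre is the preimage of its range. -/
theorem range_pullback_map_left (G H : Over S) (i : H ⟶ G) (s : S) :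
    Set.range ((Over.pullback (S.fromSpecResidueField s)).map i).left =
      (G.hom.fiberι s) ⁻¹' (Set.range i.left) := by
  set φ := S.fromSpecResidueField s with hφ
  have hfst : ((Over.pullback φ).map i).left ≫ pullback.fst G.hom φ =
      pullback.fst H.hom φ ≫ i.left := by
    simp only [Over.pullback_map_left]
    exact pullback.lift_fst _ _ _
  have hsnd : ((Over.pullback φ).map i).left ≫ pullback.snd G.hom φ = pullback.snd H.hom φ := by
    simp only [Over.pullback_map_left]
    exact pullback.lift_snd _ _ _
  apply Set.eq_of_subset_of_subset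
  · rintro _ ⟨v, rfl⟩
    refine ⟨(pullback.fst H.hom φ) v, ?_⟩
    change i.left ((pullback.fst H.hom φ) v) = (pullback.fst G.hom φ) (((Over.pullback φ).map i).left v)
    rw [← Scheme.Hom.comp_apply, ← Scheme.Hom.comp_apply, hfst]
  · rintro w ⟨h, hh⟩
    have hh' : i.left h = (pullback.fst G.hom φ) w := hh
    have hcond : H.hom h = φ ((pullback.snd G.hom φ) w) := by
      rw [← Scheme.Hom.comp_apply, ← pullback.condition, Scheme.Hom.comp_apply, ← hh',
        ← Scheme.Hom.comp_apply, Over.w]
    obtain ⟨v, hv1, hv2⟩ := Scheme.Pullback.exists_preimage_pullback h _ hcond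
    refine ⟨v, ?_⟩
    apply (G.hom.fiberι s).isEmbedding.injective
    change (pullback.fst G.hom φ) (((Over.pullback φ).map i).left v) = (pullback.fst G.hom φ) w
    rw [← Scheme.Hom.comp_apply, hfst, Scheme.Hom.comp_apply, hv1, hh']

/-- For an open subgroup scheme `i : H ⟶ G`, the trace of `H` on every fibre of `G` is clopen. -/
theorem isClopen_preimage_fiberι_range (G H : Over S) [GrpObj G] [GrpObj H] (i : H ⟶ G)
    [IsMonHom i] [IsOpenImmersion i.left] (s : S) :
    IsClopen ((G.hom.fiberι s) ⁻¹' (Set.range i.left)) := by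
  have hopen : IsOpen ((G.hom.fiberι s) ⁻¹' (Set.range i.left)) :=
    i.left.isOpenEmbedding.isOpen_range.preimage (G.hom.fiberι s).continuous
  refine ⟨?_, hopen⟩
  rw [← range_pullback_map_left] at hopen ⊢
  have hsub := isSubgroupSet_range ((Over.pullback (S.fromSpecResidueField s)).map i)
  refine @IsSubgroupSet.isClosed_of_isLocallyClosed (S.residueField s) _ ?_ ?_
    (Red.bc (S.fromSpecResidueField s) G) _ _ hsub hopen.isLocallyClosed
  · exact inferInstanceAs (IsArtinianRing (IsLocalRing.ResidueField (S.presheaf.stalk s)))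
  · exact inferInstanceAs (IsLocalRing (IsLocalRing.ResidueField (S.presheaf.stalk s)))

/-- The preimage in the scheme-theoretic fibre of a connected component of the topological fibre is
preconnected. -/
theorem isPreconnected_preimage_fiberι {X Y : Scheme.{u}} (f : X ⟶ Y) (y : Y) (x : X) :
    _root_.IsPreconnected ((f.fiberι y) ⁻¹' connectedComponentIn (f ⁻¹' {y}) x) := by
  rw [← (f.fiberι y).isEmbedding.isInducing.isPreconnected_image,
    Set.image_preimage_eq_of_subset]
  · exact isPreconnected_connectedComponentIn
  · rw [f.range_fiberι]; exact connectedComponentIn_subset _ _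

/-- An open subgroup scheme contains the neutral components of all fibres. -/
theorem neutralSet_subset_range (G H : Over S) [GrpObj G] [GrpObj H] (i : H ⟶ G)
    [IsMonHom i] [IsOpenImmersion i.left] : SGA3x.neutralSet G ⊆ Set.range i.left := by
  intro x hx
  rw [mem_neutralSet_iff] at hx
  obtain ⟨s, hs⟩ : ∃ s, s = G.hom x := ⟨_, rfl⟩
  rw [← hs] at hx
  have hfe : G.hom (η[G].left s) = s := by
    rw [← Scheme.Hom.comp_apply, Over.w]; rfl
  have hone : η[G].left s = i.left (η[H].left s) := by
    rw [← Scheme.Hom.comp_apply, ← Over.comp_left, IsMonHom.one_hom]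
  have hD := isPreconnected_preimage_fiberι G.hom s (η[G].left s)
  have hV := isClopen_preimage_fiberι_range G H i s
  obtain ⟨w₀, hw₀⟩ : η[G].left s ∈ Set.range (G.hom.fiberι s) := by
    rw [G.hom.range_fiberι]; exact hfe
  have hsub := hD.subset_isClopen hV ⟨w₀, by
    rw [Set.mem_preimage, hw₀]; exact mem_connectedComponentIn hfe, by
    rw [Set.mem_preimage, hw₀, hone]; exact ⟨_, rfl⟩⟩
  obtain ⟨w, hw⟩ : x ∈ Set.range (G.hom.fiberι s) := by
    rw [G.hom.range_fiberι]; exact hs.symm
  have := hsub (by rw [Set.mem_preimage, hw]; exact hx)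
  rwa [Set.mem_preimage, hw] at this

/-- The neutral set of an open subgroup scheme maps onto the neutral set. -/
theorem image_neutralSet_eq (G H : Over S) [GrpObj G] [GrpObj H] (i : H ⟶ G)
    [IsMonHom i] [IsOpenImmersion i.left] :
    i.left '' SGA3x.neutralSet H = SGA3x.neutralSet G := by
  have hone : ∀ s, η[G].left s = i.left (η[H].left s) := fun s => by
    rw [← Scheme.Hom.comp_apply, ← Over.comp_left, IsMonHom.one_hom]
  have hhom : ∀ h, G.hom (i.left h) = H.hom h := fun h => by
    rw [← Scheme.Hom.comp_apply, Over.w]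
  have hfeG : ∀ s, G.hom (η[G].left s) = s := fun s => by
    rw [← Scheme.Hom.comp_apply, Over.w]; rfl
  have hfeH : ∀ s, H.hom (η[H].left s) = s := fun s => by
    rw [← Scheme.Hom.comp_apply, Over.w]; rfl
  apply Set.eq_of_subset_of_subset
  · rintro _ ⟨h, hh, rfl⟩
    rw [mem_neutralSet_iff] at hh ⊢
    rw [hhom]
    obtain ⟨t, ht⟩ : ∃ t, t = H.hom h := ⟨_, rfl⟩
    rw [← ht] at hh ⊢
    have hpre : _root_.IsPreconnected (i.left '' connectedComponentIn (H.hom ⁻¹' {t}) (η[H].left t)) :=
      isPreconnected_connectedComponentIn.image _ i.left.continuous.continuousOn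
    refine hpre.subset_connectedComponentIn ⟨_, mem_connectedComponentIn (hfeH t), (hone t).symm⟩
      ?_ ⟨h, hh, rfl⟩
    rintro _ ⟨z, hz, rfl⟩
    have hz' : z ∈ H.hom ⁻¹' {t} := connectedComponentIn_subset _ _ hz
    have hz'' : H.hom z = t := hz'
    rw [Set.mem_preimage, hhom, hz'']
    exact Set.mem_singleton _
  · intro x hx
    have hx0 := hx
    rw [mem_neutralSet_iff] at hx
    obtain ⟨s, hs⟩ : ∃ s, s = G.hom x := ⟨_, rfl⟩
    rw [← hs] at hx
    -- the component lies in the range of `i`
    have hC : connectedComponentIn (G.hom ⁻¹' {s}) (η[G].left s) ⊆ Set.range i.left := by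
      intro c hc
      apply neutralSet_subset_range G H i
      rw [mem_neutralSet_iff]
      have hc' : c ∈ G.hom ⁻¹' {s} := connectedComponentIn_subset _ _ hc
      have hc'' : G.hom c = s := hc'
      rw [hc'']; exact hc
    have hpre : _root_.IsPreconnected
        (i.left ⁻¹' connectedComponentIn (G.hom ⁻¹' {s}) (η[G].left s)) := by
      rw [← i.left.isEmbedding.isInducing.isPreconnected_image,
        Set.image_preimage_eq_of_subset hC]
      exact isPreconnected_connectedComponentIn
    have hsub := hpre.subset_connectedComponentIn (x := η[H].left s) (F := H.hom ⁻¹' {s})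
      (by rw [Set.mem_preimage, ← hone]; exact mem_connectedComponentIn (hfeG s))
      (by
        intro z hz
        have hz' : i.left z ∈ G.hom ⁻¹' {s} := connectedComponentIn_subset _ _ hz
        have hz'' : G.hom (i.left z) = s := hz'
        rw [hhom] at hz''
        exact hz'')
    obtain ⟨h, rfl⟩ := hC hx
    refine ⟨h, ?_, rfl⟩
    rw [mem_neutralSet_iff]
    have hh : H.hom h = s := by rw [← hhom, hs]
    rw [hh]
    exact hsub hx

end Groth.Agent.Lib.Helper19
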